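import Groth.Agent.ModSiteLib.PullFlat
import Groth.Agent.ModSiteLib.TensorAssoc

/-!
# Sections of the internal hom, elementwise
-/

set_option autoImplicit false
set_option linter.style.haveILetI false
set_option backward.isDefEq.respectTransparency false
set_option maxHeartbeats 800000

universe u

open CategoryTheory Limits MonoidalCategory Opposite Groth.Agent.ModSiteLib
open Groth.Agent.ModSiteLib.SetPull _root_.ModSiteLib

namespace Groth.Agent.HomTensLib

variable {C : Type u} [SmallCategory C] {J : GrothendieckTopology C} {O : Sheaf J CommRingCat.{u}}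
  {F : ModSite.Mod O} [ModSite.HasSheafHom F] {N : ModSite.Mod O}

/-- The evaluation map. -/
noncomputable def evMap (F N : ModSite.Mod O) [ModSite.HasSheafHom F] :
    tens ((ModSite.sheafHom F).obj N) F ⟶ N :=
  (ModSite.sheafHomAdj F).counit.app N

/-- Evaluation of a section of the internal hom. -/
noncomputable def ev {V : C} (φ : Sec ((ModSite.sheafHom F).obj N) V) (x : Sec F V) : Sec N V :=
  ap (evMap F N) V (shT _ F φ x)

theorem ev_add {V : C} (φ ψ : Sec ((ModSite.sheafHom F).obj N) V) (x : Sec F V) :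
    ev (φ + ψ) x = ev φ x + ev ψ x := by
  rw [ev, shT_add_left]
  exact map_add (((jP O).map (evMap F N)).app (op V)).hom _ _

theorem ev_add_right {V : C} (φ : Sec ((ModSite.sheafHom F).obj N) V) (x y : Sec F V) :
    ev φ (x + y) = ev φ x + ev φ y := by
  rw [ev, shT_add_right]
  exact map_add (((jP O).map (evMap F N)).app (op V)).hom _ _

theorem ev_smul {V : C} (r : O.obj.obj (op V)) (φ : Sec ((ModSite.sheafHom F).obj N) V) (x : Sec F V) :
    ev (r • φ) x = r • ev φ x := by
  rw [ev, shT_smul_left, ap_smul]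
  rfl

theorem ev_smul_right {V : C} (r : O.obj.obj (op V)) (φ : Sec ((ModSite.sheafHom F).obj N) V) (x : Sec F V) :
    ev φ (r • x) = r • ev φ x := by
  rw [ev, shT_smul_right, ap_smul]
  rfl

theorem ev_zero_left {V : C} (x : Sec F V) : ev (0 : Sec ((ModSite.sheafHom F).obj N) V) x = 0 := by
  rw [ev, shT_zero_left, ap_zero]

theorem ev_sum {V : C} {β : Type*} (s : Finset β) (φ : β → Sec ((ModSite.sheafHom F).obj N) V) (x : Sec F V) :
    ev (∑ i ∈ s, φ i) x = ∑ i ∈ s, ev (φ i) x := by
  rw [ev, shT_sum_left, ap_sum]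
  rfl

theorem ev_sum_right {V : C} {β : Type*} (s : Finset β) (φ : Sec ((ModSite.sheafHom F).obj N) V)
    (x : β → Sec F V) : ev φ (∑ i ∈ s, x i) = ∑ i ∈ s, ev φ (x i) := by
  rw [ev, shT_sum_right, ap_sum]
  rfl

theorem res_ev {V V' : C} (g : V' ⟶ V) (φ : Sec ((ModSite.sheafHom F).obj N) V) (x : Sec F V) :
    res ((jP O).obj N) g.op (ev φ x) =
      ev (res ((jP O).obj ((ModSite.sheafHom F).obj N)) g.op φ) (res ((jP O).obj F) g.op x) := by
  refine (app_res ((jP O).map (evMap F N)) g.op _).symm.trans ?_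
  exact congrArg (ap (evMap F N) V') (res_shT _ F g φ x)

theorem ev_ap {T : ModSite.Mod O} (a : T ⟶ (ModSite.sheafHom F).obj N) {V : C} (t : Sec T V) (x : Sec F V) :
    ev (ap a V t) x = ap (((ModSite.sheafHomAdj F).homEquiv T N).symm a) V (shT T F t x) := by
  rw [Adjunction.homEquiv_counit]
  refine Eq.trans ?_ (ap_comp _ (evMap F N) V _).symm
  exact congrArg (ap (evMap F N) V) (ap_tensorBi₁ a F t x).symm

section Rep

variable (V : C)

/-- The free module on `V`. -/
noncomputable abbrev rep : ModSite.Mod O := genMod (O := O) (fun _ : PUnit.{u + 1} => V)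

/-- The tautological section. -/
noncomputable abbrev repSec : Sec (rep (O := O) V) V :=
  genSec (O := O) (fun _ : PUnit.{u + 1} => V) PUnit.unit

variable {V}

theorem exists_rep_hom {M : ModSite.Mod O} (m : Sec M V) :
    ∃ a : rep V ⟶ M, ap a V (repSec V) = m := by
  obtain ⟨a, ha⟩ := (isGenA_genSec (O := O) (obj := fun _ : PUnit.{u + 1} => V) M).2 fun _ => m
  exact ⟨a, congrFun ha PUnit.unit⟩

/-- Sections of the internal hom are determined by their values. -/
theorem hom_ext {φ ψ : Sec ((ModSite.sheafHom F).obj N) V}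
    (h : ∀ ⦃V' : C⦄ (g : V' ⟶ V) (x : Sec F V'),
      ev (res ((jP O).obj ((ModSite.sheafHom F).obj N)) g.op φ) x =
        ev (res ((jP O).obj ((ModSite.sheafHom F).obj N)) g.op ψ) x) : φ = ψ := by
  obtain ⟨a, rfl⟩ := exists_rep_hom φ
  obtain ⟨b, rfl⟩ := exists_rep_hom ψ
  suffices hab : a = b by rw [hab]
  apply ((ModSite.sheafHomAdj F).homEquiv _ N).symm.injective
  refine tens_hom_ext fun W m x => ?_
  rw [← ev_ap, ← ev_ap]
  refine sub_eq_zero.1 (sec_eq_zero_of_loc N _ ?_)
  refine (loc_hatA (isGenA_genSec (O := O) (obj := fun _ : PUnit.{u + 1} => V)) m).mono ?_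
  rintro W' k ⟨y, hy⟩
  refine (map_sub (((jP O).obj N).map k.op).hom _ _).trans (sub_eq_zero.2 ?_)
  show res ((jP O).obj N) k.op (ev (ap a W m) x) = res ((jP O).obj N) k.op (ev (ap b W m) x)
  rw [res_ev, res_ev, ← app_res ((jP O).map a) k.op m, ← app_res ((jP O).map b) k.op m]
  show ev (ap a W' (res _ k.op m)) _ = ev (ap b W' (res _ k.op m)) _
  rw [hy, ap_sum, ap_sum, ev_sum, ev_sum]
  refine Finset.sum_congr rfl fun q _ => ?_
  rw [ap_smul, ap_smul, ev_smul, ev_smul]
  refine congrArg (y q • ·) ?_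
  show ev (((jP O).map a).app _ (res _ q.2.op _)) _ = ev (((jP O).map b).app _ (res _ q.2.op _)) _
  rw [app_res, app_res]
  exact h q.2 _

/-- A natural family of linear maps gives a section of the internal hom. -/
theorem exists_of_family (ψ : ∀ (V' : C) (_ : V' ⟶ V), Sec F V' →ₗ[O.obj.obj (op V')] Sec N V')
    (hψ : ∀ {V' V'' : C} (g : V' ⟶ V) (k : V'' ⟶ V') (x : Sec F V'),
      res ((jP O).obj N) k.op (ψ V' g x) = ψ V'' (k ≫ g) (res ((jP O).obj F) k.op x)) :
    ∃ φ : Sec ((ModSite.sheafHom F).obj N) V, ∀ (V' : C) (g : V' ⟶ V) (x : Sec F V'),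
      ev (res ((jP O).obj ((ModSite.sheafHom F).obj N)) g.op φ) x = ψ V' g x := by
  let A := gA (fun _ : PUnit.{u + 1} => V)
  let pre : (frP (O := O) A ⊗ (jP O).obj F : PMod O) ⟶ (jP O).obj N :=
    { app := fun Z => ModuleCat.ofHom (TensorProduct.lift
        (Finsupp.linearCombination (O.obj.obj Z) fun q : A.obj Z => ψ Z.unop q.2))
      naturality := fun {Z W} g => by
        refine ModuleCat.hom_ext (TensorProduct.ext (Finsupp.lhom_ext' fun q =>
          LinearMap.ext_ring (LinearMap.ext fun x => ?_)))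
        show TensorProduct.lift
            (Finsupp.linearCombination (O.obj.obj W) fun q : A.obj W => ψ W.unop q.2)
            (TensorProduct.tmul (O.obj.obj W)
              (res (frP (O := O) A) g (ModuleCat.freeMk q)) (res ((jP O).obj F) g x)) =
          res ((jP O).obj N) g (Finsupp.linearCombination (O.obj.obj Z) (fun q : A.obj Z => ψ Z.unop q.2)
            (Finsupp.single q 1) x)
        rw [res_freeMk]
        show Finsupp.linearCombination (O.obj.obj W) (fun q : A.obj W => ψ W.unop q.2)
            (Finsupp.single (A.map g q) 1) _ = _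
        rw [Finsupp.linearCombination_single, Finsupp.linearCombination_single, one_smul, one_smul]
        exact (hψ q.2 g.unop x).symm }
  haveI : IsIso ((aP O).map ((adjP O).unit.app (frP (O := O) A) ▷ (jP O).obj F)) :=
    isIso_aP_unit_right' _ _
  let w := (aP O).map ((adjP O).unit.app (frP (O := O) A) ▷ (jP O).obj F)
  let aT : tens (rep V) F ⟶ N := CategoryTheory.inv w ≫ ((adjP O).homEquiv _ N).symm pre
  refine ⟨ap ((ModSite.sheafHomAdj F).homEquiv (rep V) N aT) V (repSec V), fun V' g x => ?_⟩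
  rw [← app_res ((jP O).map ((ModSite.sheafHomAdj F).homEquiv (rep V) N aT)) g.op]
  refine (ev_ap _ _ x).trans ?_
  rw [Equiv.symm_apply_apply]
  let q : A.obj (op V') := ⟨PUnit.unit, g⟩
  have e1 : res ((jP O).obj (rep V)) g.op (repSec V) =
      ((adjP O).unit.app (frP (O := O) A)).app (op V') (ModuleCat.freeMk q) := by
    refine (app_res ((adjP O).unit.app (frP (O := O) A)) g.op _).symm.trans ?_
    refine congrArg (((adjP O).unit.app (frP (O := O) A)).app (op V')) ((res_freeMk A g.op _).trans ?_)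
    exact congrArg ModuleCat.freeMk (congrArg (Sigma.mk PUnit.unit) (Category.comp_id g))
  have e2 : shT (rep V) F (res ((jP O).obj (rep V)) g.op (repSec V)) x =
      ap w V' (((adjP O).unit.app (frP (O := O) A ⊗ (jP O).obj F)).app (op V')
        (TensorProduct.tmul (O.obj.obj (op V')) (ModuleCat.freeMk q) x)) := by
    rw [e1]
    exact (ap_aP_map ((adjP O).unit.app (frP (O := O) A) ▷ (jP O).obj F) V'
      (TensorProduct.tmul (O.obj.obj (op V')) (ModuleCat.freeMk q) x)).symm
  rw [e2, ← ap_comp, show w ≫ aT = ((adjP O).homEquiv _ N).symm pre from IsIso.hom_inv_id_assoc w _]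
  have e3 := ((adjP O).homEquiv _ N).apply_symm_apply pre
  rw [Adjunction.homEquiv_unit] at e3
  refine (congr(($e3).app (op V') (TensorProduct.tmul (O.obj.obj (op V')) (ModuleCat.freeMk q) x))).trans ?_
  show Finsupp.linearCombination (O.obj.obj (op V')) (fun q : A.obj (op V') => ψ V' q.2)
    (Finsupp.single q 1) x = _
  rw [Finsupp.linearCombination_single, one_smul]

end Rep

end Groth.Agent.HomTensLib
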