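import Groth.Agent.ModSiteLib.PullFlat
import Groth.Agent.ModSiteLib.LocalFactor

/-!
# Vanishing of sums of tensors with a flat factor
-/

set_option autoImplicit false
set_option linter.style.haveILetI false
set_option backward.isDefEq.respectTransparency false

universe u

open CategoryTheory Limits MonoidalCategory Opposite Groth.Agent.ModSiteLib
open Groth.Agent.ModSiteLib.SetPull _root_.ModSiteLib

namespace Groth.Agent.HomTensLib

variable {C : Type u} [SmallCategory C] {J : GrothendieckTopology C} {O : Sheaf J CommRingCat.{u}}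
  {G H : ModSite.Mod O}

/-- A vanishing sum of tensors with a flat factor is locally trivial. -/
theorem loc_vanish (hH : Eqn H) {V : C} {n : ℕ} (u : Fin n → Sec G V) (h : Fin n → Sec H V)
    (h0 : ∑ k, shT G H (u k) (h k) = 0) :
    Loc J V fun V' g => ∃ (l : ℕ) (h' : Fin l → Sec H V') (α : Fin n → Fin l → O.obj.obj (op V')),
      (∀ k, res ((jP O).obj H) g.op (h k) = ∑ i, α k i • h' i) ∧
      ∀ i, ∑ k, α k i • res ((jP O).obj G) g.op (u k) = 0 := by
  classical
  let P : PMod O := (jP O).obj G ⊗ (jP O).obj H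
  let z : P.obj (op V) := ∑ k, TensorProduct.tmul (O.obj.obj (op V)) (u k) (h k)
  let u₀ := (adjP O).unit.app ((jP O).obj G ⊗ (jP O).obj H)
  have hW := W_unit O ((jP O).obj G ⊗ (jP O).obj H)
  rw [GrothendieckTopology.W_iff_isLocallyBijective] at hW
  haveI := hW.1
  have hz : u₀.app (op V) z = 0 := by
    refine Eq.trans (map_sum (u₀.app (op V)).hom _ _) ?_
    exact h0
  refine Loc.bind (⟨Presheaf.equalizerSieve (F := P.presheaf) (X := op V) z 0,
    Presheaf.equalizerSieve_mem J ((PresheafOfModules.toPresheaf _).map u₀)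
    (X := op V) z 0 (hz.trans (map_zero (u₀.app (op V)).hom).symm), fun V' k hk => hk⟩ :
      Loc J V fun V' k => res P k.op z = res P k.op 0) fun V₁ g₁ hg₁ => ?_
  rw [res_zero, res_sum] at hg₁
  have hg₁' : ∑ k, TensorProduct.tmul (O.obj.obj (op V₁)) (res ((jP O).obj G) g₁.op (u k))
      (res ((jP O).obj H) g₁.op (h k)) = 0 := hg₁
  obtain ⟨l, a, t, s, c, hy, hc, hL⟩ :=
    Groth.Agent.ModSiteLib.EqnAlg.exists_extended_relation _ _ hg₁'
  obtain ⟨S, hS, hSg⟩ := eqn_multi hH s c t (fun g _ => hc g)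
  refine ⟨S, hS, fun V₂ g₂ hg₂ => ?_⟩
  obtain ⟨l', t', b, ht', hb⟩ := hSg g₂ hg₂
  refine ⟨l', t', fun k i => ∑ j, rC g₂ (a k j) * b j i, fun k => ?_, fun i => ?_⟩
  · rw [op_comp, ← res_comp, hy k, res_sum]
    simp only [Finset.sum_smul]
    rw [Finset.sum_comm]
    refine Finset.sum_congr rfl fun j _ => ?_
    rw [res_smul, ht' j, Finset.smul_sum]
    refine Finset.sum_congr rfl fun i _ => ?_
    rw [mul_smul]
  · have e₁ : ∀ k, (∑ j, rC g₂ (a k j) * b j i) • res ((jP O).obj G) (g₂ ≫ g₁).op (u k) =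
        ∑ j, b j i • res ((jP O).obj G) g₂.op (a k j • res ((jP O).obj G) g₁.op (u k)) := fun k => by
      rw [Finset.sum_smul]
      refine Finset.sum_congr rfl fun j _ => ?_
      rw [res_smul, op_comp, ← res_comp, mul_comm, mul_smul]
    rw [Finset.sum_congr rfl fun k _ => e₁ k, Finset.sum_comm]
    have e₂ : ∀ j, b j i • res ((jP O).obj G) g₂.op (∑ k, a k j • res ((jP O).obj G) g₁.op (u k)) =
        -∑ q ∈ s, (b j i * rC g₂ (c q j)) • res ((jP O).obj G) g₂.op q := fun j => by
      rw [eq_neg_of_add_eq_zero_left (hL j)]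
      refine (congrArg (b j i • ·) (map_neg (((jP O).obj G).map g₂.op).hom _)).trans ?_
      refine (smul_neg (b j i) _).trans (congrArg Neg.neg ?_)
      refine (congrArg (b j i • ·) (map_sum (((jP O).obj G).map g₂.op).hom _ s)).trans ?_
      rw [Finset.smul_sum]
      refine Finset.sum_congr rfl fun q _ => ?_
      refine (congrArg (b j i • ·) (res_smul ((jP O).obj G) g₂.op (c q j) q)).trans ?_
      rw [mul_smul]
    simp only [← Finset.smul_sum, ← res_sum, e₂, Finset.sum_neg_distrib]
    rw [Finset.sum_comm, neg_eq_zero]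
    refine Finset.sum_eq_zero fun q hq => ?_
    rw [← Finset.sum_smul, hb q hq i, zero_smul]

/-- Finitely many vanishing sums of tensors with a flat factor are trivialised simultaneously. -/
theorem loc_vanish_multi (hH : Eqn H) {β : Type*} (Q : Finset β) :
    ∀ {V : C} {n : ℕ} (u : β → Fin n → Sec G V) (h : Fin n → Sec H V),
    (∀ b ∈ Q, ∑ k, shT G H (u b k) (h k) = 0) →
    Loc J V fun V' g => ∃ (l : ℕ) (h' : Fin l → Sec H V') (α : Fin n → Fin l → O.obj.obj (op V')),
      (∀ k, res ((jP O).obj H) g.op (h k) = ∑ i, α k i • h' i) ∧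
      ∀ b ∈ Q, ∀ i, ∑ k, α k i • res ((jP O).obj G) g.op (u b k) = 0 := by
  classical
  induction Q using Finset.induction with
  | empty =>
    intro V n u h _
    refine Loc.of_forall fun V' g => ⟨n, fun k => res ((jP O).obj H) g.op (h k),
      fun k i => if k = i then 1 else 0, fun k => ?_, fun b hb => absurd hb (by simp)⟩
    simp
  | @insert b Q hb ih =>
    intro V n u h h0
    refine Loc.bind (loc_vanish hH (u b) h (h0 b (Finset.mem_insert_self _ _))) ?_
    rintro V₁ g₁ ⟨l₁, h₁, α₁, e₁, z₁⟩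
    let u₁ : _ → Fin l₁ → Sec G V₁ := fun b' i => ∑ k, α₁ k i • res ((jP O).obj G) g₁.op (u b' k)
    have key : ∀ b' ∈ Q, ∑ i, shT G H (u₁ b' i) (h₁ i) = 0 := fun b' hb' => by
      have := congrArg (res ((jP O).obj (tens G H)) g₁.op) (h0 b' (Finset.mem_insert_of_mem hb'))
      rw [res_sum, res_zero] at this
      refine Eq.trans ?_ this
      simp only [u₁, shT_sum_left, shT_smul_left]
      rw [Finset.sum_comm]
      refine Finset.sum_congr rfl fun k _ => ?_
      rw [res_shT, e₁ k, shT_sum_right]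
      refine Finset.sum_congr rfl fun i _ => ?_
      rw [shT_smul_right]
    refine Loc.mono (ih u₁ h₁ key) ?_
    rintro V₂ g₂ ⟨l₂, h₂, α₂, e₂, z₂⟩
    refine ⟨l₂, h₂, fun k i => ∑ j, rC g₂ (α₁ k j) * α₂ j i, fun k => ?_, fun b' hb' i => ?_⟩
    · rw [op_comp, ← res_comp, e₁ k, res_sum]
      simp only [Finset.sum_smul]
      rw [Finset.sum_comm]
      refine Finset.sum_congr rfl fun j _ => ?_
      rw [res_smul, e₂ j, Finset.smul_sum]
      refine Finset.sum_congr rfl fun i _ => ?_
      rw [mul_smul]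
    · have e : ∑ k, (∑ j, rC g₂ (α₁ k j) * α₂ j i) • res ((jP O).obj G) (g₂ ≫ g₁).op (u b' k) =
          ∑ j, α₂ j i • res ((jP O).obj G) g₂.op (u₁ b' j) := by
        simp only [u₁, res_sum, Finset.smul_sum, Finset.sum_smul]
        rw [Finset.sum_comm]
        refine Finset.sum_congr rfl fun j _ => Finset.sum_congr rfl fun k _ => ?_
        rw [res_smul, op_comp, ← res_comp, mul_comm, mul_smul]
      rw [e]
      rcases Finset.mem_insert.1 hb' with rfl | hb''
      · refine Finset.sum_eq_zero fun j _ => ?_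
        show α₂ j i • res ((jP O).obj G) g₂.op (∑ k, α₁ k j • res ((jP O).obj G) g₁.op (u b' k)) = 0
        rw [z₁ j, res_zero, smul_zero]
      · exact z₂ b' hb'' i

end Groth.Agent.HomTensLib
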