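import Groth.Agent.HomTensLib.Hom
import Groth.Agent.HomTensLib.Vanish

/-!
# `Hom(F, G) ⊗ H ≅ Hom(F, G ⊗ H)` for finitely presented `F` and flat `H`
-/

set_option autoImplicit false
set_option linter.style.haveILetI false
set_option backward.isDefEq.respectTransparency false
set_option maxHeartbeats 800000

universe u

open CategoryTheory Limits MonoidalCategory Opposite Groth.Agent.ModSiteLib
open Groth.Agent.ModSiteLib.SetPull _root_.ModSiteLib

namespace Groth.Agent.HomTensLib

variable {C : Type u} [SmallCategory C] {J : GrothendieckTopology C} {O : Sheaf J CommRingCat.{u}}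
  {F : ModSite.Mod O} [ModSite.HasSheafHom F] (G H : ModSite.Mod O)

/-- Restriction of sections. -/
noncomputable abbrev rs {M : ModSite.Mod O} {V W : C} (g : W ⟶ V) (m : Sec M V) : Sec M W :=
  res ((jP O).obj M) g.op m

theorem rs_rs {M : ModSite.Mod O} {U V W : C} (g : V ⟶ U) (k : W ⟶ V) (m : Sec M U) :
    rs k (rs g m) = rs (k ≫ g) m := res_comp ((jP O).obj M) g.op k.op m

theorem rs_add {M : ModSite.Mod O} {V W : C} (g : W ⟶ V) (m m' : Sec M V) :
    rs g (m + m') = rs g m + rs g m' := res_add _ _ m m'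

theorem rs_smul {M : ModSite.Mod O} {V W : C} (g : W ⟶ V) (r : O.obj.obj (op V)) (m : Sec M V) :
    rs g (r • m) = rC g r • rs g m := res_smul _ _ _ _

/-- The values of the comparison map. -/
noncomputable def θval {V : C} (φ : Sec ((ModSite.sheafHom F).obj G) V) (h : Sec H V) (V' : C)
    (g : V' ⟶ V) : Sec F V' →ₗ[O.obj.obj (op V')] Sec (tens G H) V' where
  toFun x := shT G H (ev (rs g φ) x) (rs g h)
  map_add' x y := by rw [ev_add_right, shT_add_left]
  map_smul' r x := by
    rw [ev_smul_right, shT_smul_left]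
    rfl

theorem θval_natural {V : C} (φ : Sec ((ModSite.sheafHom F).obj G) V) (h : Sec H V) {V' V'' : C}
    (g : V' ⟶ V) (k : V'' ⟶ V') (x : Sec F V') :
    res ((jP O).obj (tens G H)) k.op (θval G H φ h V' g x) =
      θval G H φ h V'' (k ≫ g) (res ((jP O).obj F) k.op x) := by
  show res ((jP O).obj (tens G H)) k.op (shT G H (ev (rs g φ) x) (rs g h)) =
    shT G H (ev (rs (k ≫ g) φ) (res ((jP O).obj F) k.op x)) (rs (k ≫ g) h)
  rw [res_shT, res_ev]
  show shT G H (ev (rs k (rs g φ)) _) (rs k (rs g h)) = _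
  rw [rs_rs, rs_rs]

/-- The comparison map on pairs of sections. -/
noncomputable def θsec {V : C} (φ : Sec ((ModSite.sheafHom F).obj G) V) (h : Sec H V) :
    Sec ((ModSite.sheafHom F).obj (tens G H)) V :=
  (exists_of_family (N := tens G H) (θval G H φ h) (θval_natural G H φ h)).choose

theorem ev_θsec {V : C} (φ : Sec ((ModSite.sheafHom F).obj G) V) (h : Sec H V) {V' : C} (g : V' ⟶ V)
    (x : Sec F V') : ev (rs g (θsec G H φ h)) x = shT G H (ev (rs g φ) x) (rs g h) :=
  (exists_of_family (N := tens G H) (θval G H φ h) (θval_natural G H φ h)).choose_spec V' g x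

variable (F) in
/-- The comparison map on presheaves. -/
noncomputable def θpre :
    ((jP O).obj ((ModSite.sheafHom F).obj G) ⊗ (jP O).obj H : PMod O) ⟶
      (jP O).obj ((ModSite.sheafHom F).obj (tens G H)) where
  app Z := ModuleCat.ofHom (TensorProduct.lift
    (LinearMap.mk₂ (O.obj.obj Z)
      (fun (φ : Sec ((ModSite.sheafHom F).obj G) Z.unop) (h : Sec H Z.unop) => θsec G H φ h)
      (fun φ φ' h => hom_ext fun V' g x => by
        show ev (rs g (θsec G H (φ + φ') h)) x = ev (rs g (θsec G H φ h + θsec G H φ' h)) x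
        rw [rs_add, ev_add, ev_θsec, ev_θsec, ev_θsec, rs_add, ev_add, shT_add_left])
      (fun r φ h => hom_ext fun V' g x => by
        show ev (rs g (θsec G H ((show O.obj.obj (op Z.unop) from r) • φ) h)) x =
          ev (rs g ((show O.obj.obj (op Z.unop) from r) • θsec G H φ h)) x
        rw [rs_smul, ev_smul, ev_θsec, ev_θsec, rs_smul, ev_smul, shT_smul_left])
      (fun φ h h' => hom_ext fun V' g x => by
        show ev (rs g (θsec G H φ (h + h'))) x = ev (rs g (θsec G H φ h + θsec G H φ h')) x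
        rw [rs_add, ev_add, ev_θsec, ev_θsec, ev_θsec, rs_add, shT_add_right])
      (fun r φ h => hom_ext fun V' g x => by
        show ev (rs g (θsec G H φ ((show O.obj.obj (op Z.unop) from r) • h))) x =
          ev (rs g ((show O.obj.obj (op Z.unop) from r) • θsec G H φ h)) x
        rw [rs_smul g _ (θsec G H φ h), ev_smul, ev_θsec, ev_θsec, rs_smul, shT_smul_right])))
  naturality {Z W} k := ModuleCat.MonoidalCategory.tensor_ext fun φ h => by
    show θsec G H (rs k.unop φ) (rs k.unop h) = rs k.unop (θsec G H φ h)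
    refine hom_ext fun V' g x => ?_
    show ev (rs g (θsec G H (rs k.unop φ) (rs k.unop h))) x = ev (rs g (rs k.unop (θsec G H φ h))) x
    rw [rs_rs k.unop g (θsec G H φ h), ev_θsec, ev_θsec, rs_rs, rs_rs]

variable (F) in
/-- The comparison map. -/
noncomputable def θ : tens ((ModSite.sheafHom F).obj G) H ⟶ (ModSite.sheafHom F).obj (tens G H) :=
  ((adjP O).homEquiv _ _).symm (θpre F G H)

theorem ap_θ {V : C} (φ : Sec ((ModSite.sheafHom F).obj G) V) (h : Sec H V) :
    ap (θ F G H) V (shT _ H φ h) = θsec G H φ h := by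
  have e := ((adjP O).homEquiv _ _).apply_symm_apply (θpre F G H)
  rw [Adjunction.homEquiv_unit] at e
  exact congr(($e).app (op V) (TensorProduct.tmul (O.obj.obj (op V)) φ h))

variable {G H}

/-- Sections of the internal hom agreeing on generators are equal. -/
theorem hom_ext_gen {N : ModSite.Mod O} {U V : C} (P : FinPres F U) (v : V ⟶ U)
    {φ ψ : Sec ((ModSite.sheafHom F).obj N) V}
    (h : ∀ a, ev φ (rs v (P.e a)) = ev ψ (rs v (P.e a))) : φ = ψ := by
  refine hom_ext fun V' g x => sub_eq_zero.1 (sec_eq_zero_of_loc N _ ?_)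
  refine (P.gen (g ≫ v) x).mono ?_
  rintro V'' k ⟨d, hd⟩
  refine (map_sub (((jP O).obj N).map k.op).hom _ _).trans (sub_eq_zero.2 ?_)
  show res ((jP O).obj N) k.op (ev (rs g φ) x) = res ((jP O).obj N) k.op (ev (rs g ψ) x)
  rw [res_ev, res_ev, hd, ev_sum_right, ev_sum_right]
  refine Finset.sum_congr rfl fun a _ => ?_
  rw [ev_smul_right, ev_smul_right]
  refine congrArg (d a • ·) ?_
  have := congrArg (rs (k ≫ g)) (h a)
  rw [show rs (k ≫ g) (ev φ (rs v (P.e a))) = _ from res_ev (k ≫ g) φ _,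
    show rs (k ≫ g) (ev ψ (rs v (P.e a))) = _ from res_ev (k ≫ g) ψ _] at this
  show ev (rs k (rs g φ)) (rs (k ≫ g ≫ v) (P.e a)) = ev (rs k (rs g ψ)) (rs (k ≫ g ≫ v) (P.e a))
  rw [rs_rs, rs_rs, ← Category.assoc, ← rs_rs v (k ≫ g) (P.e a)]
  exact this

/-- Values on generators satisfying the relations define a section of the internal hom. -/
theorem exists_of_tuple {N : ModSite.Mod O} {U V : C} (P : FinPres F U) (v : V ⟶ U)
    (t : Fin P.n → Sec N V) (ht : ∀ b, ∑ a, rC v (P.c b a) • t a = 0) :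
    ∃ φ : Sec ((ModSite.sheafHom F).obj N) V, ∀ a, ev φ (rs v (P.e a)) = t a := by
  classical
  have wd : ∀ {W : C} (g : W ⟶ V) (d d' : Fin P.n → O.obj.obj (op W)),
      ∑ a, d a • rs (g ≫ v) (P.e a) = ∑ a, d' a • rs (g ≫ v) (P.e a) →
      ∑ a, d a • rs g (t a) = ∑ a, d' a • rs g (t a) := by
    intro W g d d' e
    rw [← sub_eq_zero, ← Finset.sum_sub_distrib] at e ⊢
    simp only [← sub_smul] at e ⊢
    refine sec_eq_zero_of_loc N _ ((P.ker (g ≫ v) (fun a => d a - d' a) e).mono ?_)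
    rintro W' k ⟨y, hy⟩
    rw [res_sum]
    have e1 : ∀ a, res ((jP O).obj N) k.op ((d a - d' a) • rs g (t a)) =
        ∑ b, y b • (rC (k ≫ g ≫ v) (P.c b a) • rs (k ≫ g) (t a)) := fun a => by
      rw [res_smul]
      show rC k (d a - d' a) • rs k (rs g (t a)) = _
      rw [rs_rs, hy a, Finset.sum_smul]
      refine Finset.sum_congr rfl fun b _ => ?_
      rw [mul_smul]
    rw [Finset.sum_congr rfl fun a _ => e1 a, Finset.sum_comm]
    refine Finset.sum_eq_zero fun b _ => ?_
    rw [← Finset.smul_sum]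
    have e2 := congrArg (rs (k ≫ g)) (ht b)
    rw [show rs (k ≫ g) (∑ a, rC v (P.c b a) • t a) = _ from res_sum ((jP O).obj N) (k ≫ g).op _ _,
      show rs (k ≫ g) (0 : Sec N V) = 0 from res_zero _ _] at e2
    refine (congrArg (y b • ·) (Eq.trans (Finset.sum_congr rfl fun a _ => ?_) e2)).trans (smul_zero _)
    rw [res_smul]
    refine congrArg (· • rs (k ≫ g) (t a)) ?_
    show rC (k ≫ g ≫ v) (P.c b a) = rC (k ≫ g) (rC v (P.c b a))
    rw [← rC_comp, Category.assoc]
  have hval : ∀ {W : C} (g : W ⟶ V) (x : Sec F W), ∃ y : Sec N W, ∀ {W' : C} (k : W' ⟶ W)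
      (d : Fin P.n → O.obj.obj (op W')), rs k x = ∑ a, d a • rs (k ≫ g ≫ v) (P.e a) →
      rs k y = ∑ a, d a • rs (k ≫ g) (t a) := by
    intro W g x
    obtain ⟨S, hS, hp⟩ := P.gen (g ≫ v) x
    choose d hd using hp
    let fam : Presieve.FamilyOfElements (((jP O).obj N).presheaf ⋙ forget AddCommGrpCat.{u}) S.arrows :=
      fun W' k hk => ∑ a, d k hk a • rs (k ≫ g) (t a)
    have hcomp : fam.Compatible := by
      intro Y₁ Y₂ Z g₁ g₂ f₁ f₂ h₁ h₂ e
      show rs g₁ (∑ a, d f₁ h₁ a • rs (f₁ ≫ g) (t a)) = rs g₂ (∑ a, d f₂ h₂ a • rs (f₂ ≫ g) (t a))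
      have expand : ∀ {Y : C} (k' : Z ⟶ Y) (f' : Y ⟶ W) (δ : Fin P.n → O.obj.obj (op Y)),
          rs k' (∑ a, δ a • rs (f' ≫ g) (t a)) =
            ∑ a, rC k' (δ a) • rs ((k' ≫ f') ≫ g) (t a) := fun k' f' δ => by
        rw [show rs k' (∑ a, δ a • rs (f' ≫ g) (t a)) = _ from res_sum ((jP O).obj N) k'.op _ _]
        refine Finset.sum_congr rfl fun a _ => ?_
        rw [res_smul]
        show rC k' (δ a) • rs k' (rs (f' ≫ g) (t a)) = _
        rw [rs_rs, Category.assoc]
      rw [expand, expand, e]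
      refine wd ((g₂ ≫ f₂) ≫ g) _ _ ?_
      have expand' : ∀ {Y : C} (k' : Z ⟶ Y) (f' : Y ⟶ W) (hf' : S f'),
          rs (k' ≫ f') x = ∑ a, rC k' (d f' hf' a) • rs (((k' ≫ f') ≫ g) ≫ v) (P.e a) := fun k' f' hf' => by
        rw [← rs_rs, show rs f' x = _ from hd f' hf',
          show rs k' (∑ a, d f' hf' a • rs (f' ≫ g ≫ v) (P.e a)) = _ from res_sum ((jP O).obj F) k'.op _ _]
        refine Finset.sum_congr rfl fun a _ => ?_
        rw [res_smul]
        show rC k' (d f' hf' a) • rs k' (rs (f' ≫ g ≫ v) (P.e a)) = _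
        rw [rs_rs]
        simp only [Category.assoc]
      have h₁' := expand' g₁ f₁ h₁
      rw [e] at h₁'
      exact h₁'.symm.trans (expand' g₂ f₂ h₂)
    have hsh : Presheaf.IsSheaf J (((jP O).obj N).presheaf ⋙ forget AddCommGrpCat.{u}) :=
      (Presheaf.isSheaf_iff_isSheaf_comp J ((jP O).obj N).presheaf (forget AddCommGrpCat.{u})).1 N.isSheaf
    have hsf := (isSheaf_iff_isSheaf_of_type _ _).1 hsh S hS
    refine ⟨hsf.amalgamate fam hcomp, fun {W'} k d' hd' => sub_eq_zero.1 (sec_eq_zero_of_loc N _ ?_)⟩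
    refine ⟨S.pullback k, J.pullback_stable k hS, fun W'' k' hk' => ?_⟩
    refine (map_sub (((jP O).obj N).map k'.op).hom _ _).trans (sub_eq_zero.2 ?_)
    show rs k' (rs k (hsf.amalgamate fam hcomp)) = rs k' (∑ a, d' a • rs (k ≫ g) (t a))
    rw [rs_rs, show rs (k' ≫ k) (hsf.amalgamate fam hcomp) = fam (k' ≫ k) hk' from
      hsf.valid_glue hcomp (k' ≫ k) hk']
    rw [show rs k' (∑ a, d' a • rs (k ≫ g) (t a)) = _ from res_sum ((jP O).obj N) k'.op _ _]
    have e3 : ∀ a, res ((jP O).obj N) k'.op (d' a • rs (k ≫ g) (t a)) =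
        rC k' (d' a) • rs ((k' ≫ k) ≫ g) (t a) := fun a => by
      rw [res_smul]
      show rC k' (d' a) • rs k' (rs (k ≫ g) (t a)) = _
      rw [rs_rs, Category.assoc]
    rw [Finset.sum_congr rfl fun a _ => e3 a]
    refine wd ((k' ≫ k) ≫ g) (d (k' ≫ k) hk') (fun a => rC k' (d' a)) ?_
    have h1 : rs (k' ≫ k) x = ∑ a, d (k' ≫ k) hk' a • rs (((k' ≫ k) ≫ g) ≫ v) (P.e a) := by
      refine (hd (k' ≫ k) hk').trans (Finset.sum_congr rfl fun a _ => ?_)
      simp only [Category.assoc]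
    refine h1.symm.trans ?_
    rw [← rs_rs, hd', show rs k' (∑ a, d' a • rs (k ≫ g ≫ v) (P.e a)) = _ from
      res_sum ((jP O).obj F) k'.op _ _]
    refine Finset.sum_congr rfl fun a _ => ?_
    rw [res_smul]
    show rC k' (d' a) • rs k' (rs (k ≫ g ≫ v) (P.e a)) = _
    rw [rs_rs]
    simp only [Category.assoc]
  choose val hval using @hval
  have key : ∀ {W : C} (g : W ⟶ V) (x x' : Sec F W) {y y' : Sec N W},
      (∀ {W' : C} (k : W' ⟶ W) (d d' : Fin P.n → O.obj.obj (op W')),
        rs k x = ∑ a, d a • rs (k ≫ g ≫ v) (P.e a) →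
        rs k x' = ∑ a, d' a • rs (k ≫ g ≫ v) (P.e a) → rs k y = rs k y') → y = y' := by
    intro W g x x' y y' h
    refine sub_eq_zero.1 (sec_eq_zero_of_loc N _ (((P.gen (g ≫ v) x).and (P.gen (g ≫ v) x')).mono ?_))
    rintro W' k ⟨⟨d, hd⟩, ⟨d', hd'⟩⟩
    exact (map_sub (((jP O).obj N).map k.op).hom _ _).trans (sub_eq_zero.2 (h k d d' hd hd'))
  let ψ : ∀ (W : C) (_ : W ⟶ V), Sec F W →ₗ[O.obj.obj (op W)] Sec N W := fun W g =>
    { toFun := val g
      map_add' := fun x y => key g x y fun {W'} k d d' hd hd' => by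
        rw [rs_add, hval g x k d hd, hval g y k d' hd', hval g (x + y) k (d + d') (by
          rw [rs_add, hd, hd', ← Finset.sum_add_distrib]
          exact Finset.sum_congr rfl fun a _ => (add_smul _ _ _).symm), ← Finset.sum_add_distrib]
        exact Finset.sum_congr rfl fun a _ => add_smul _ _ _
      map_smul' := fun r x => key g x x fun {W'} k d _ hd _ => by
        show rs k (val g (r • x)) = rs k (r • val g x)
        rw [rs_smul, hval g x k d hd, hval g (r • x) k (fun a => rC k r * d a) (by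
          rw [rs_smul, hd, Finset.smul_sum]
          exact Finset.sum_congr rfl fun a _ => (mul_smul _ _ _).symm), Finset.smul_sum]
        exact Finset.sum_congr rfl fun a _ => mul_smul _ _ _ }
  obtain ⟨φ, hφ⟩ := exists_of_family ψ (fun {W W'} g k x => by
    refine key (k ≫ g) (rs k x) (rs k x) fun {W''} k' d _ hd _ => ?_
    show rs k' (rs k (val g x)) = rs k' (val (k ≫ g) (rs k x))
    rw [hval (k ≫ g) (rs k x) k' d hd, rs_rs]
    rw [rs_rs] at hd
    rw [hval g x (k' ≫ k) d (by rw [hd]; simp only [Category.assoc])]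
    simp only [Category.assoc])
  refine ⟨φ, fun a => ?_⟩
  have e1 := hφ V (𝟙 V) (rs v (P.e a))
  rw [show res ((jP O).obj ((ModSite.sheafHom F).obj N)) (𝟙 V).op φ = φ from by rw [op_id, res_id]] at e1
  rw [e1]
  show val (𝟙 V) (rs v (P.e a)) = t a
  have := hval (𝟙 V) (rs v (P.e a)) (𝟙 V) (fun b => if b = a then 1 else 0) (by simp [rs, res_id])
  simpa [rs, res_id] using this

/-- Every object is locally inside the domain of a finite presentation. -/
theorem loc_finPres (F : ModSite.Mod O) [F.IsFinitePresentation] (V : C) :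
    Loc J V fun V' _ => ∃ (U : C) (_ : V' ⟶ U), Nonempty (FinPres F U) := by
  obtain ⟨σ, hσ⟩ := SheafOfModules.IsFinitePresentation.exists_quasicoherentData F
  refine ⟨Sieve.ofObjects σ.X V, σ.coversTop V, fun V' g hg => ?_⟩
  obtain ⟨i, ⟨v⟩⟩ := (Sieve.mem_ofObjects_iff ..).1 hg
  haveI : (σ.presentation i).IsFinite := hσ.isFinite_presentation i
  exact ⟨σ.X i, v, nonempty_finPres F (σ.X i) (σ.presentation i)⟩

variable (G) in
/-- The comparison map is an isomorphism. -/
theorem isIso_θ [F.IsFinitePresentation] (hH : ModSite.IsFlat H) : IsIso (θ F G H) := by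
  classical
  have hE := eqn_of_isFlat hH
  let T := tens ((ModSite.sheafHom F).obj G) H
  haveI : Mono (θ F G H) := mono_of_injective_ap _ fun V => (injective_iff_map_eq_zero
    (((jP O).map (θ F G H)).app (op V)).hom).2 fun z hz => by
      refine sec_eq_zero_of_loc T z ?_
      refine Loc.bind ((loc_tensor _ H z).and (loc_finPres F V)) ?_
      rintro V₁ g₁ ⟨⟨n, φ, h, hz₁⟩, ⟨U, v, ⟨P⟩⟩⟩
      have h0 : ∀ a ∈ (Finset.univ : Finset (Fin P.n)),
          ∑ i, shT G H (ev (φ i) (rs v (P.e a))) (h i) = 0 := fun a _ => by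
        have e : ap (θ F G H) V₁ (∑ i, shT _ H (φ i) (h i)) = 0 := by
          rw [← hz₁]; exact ap_res_eq_zero _ g₁ hz
        rw [ap_sum] at e
        have e' := congrArg (fun s => ev s (rs v (P.e a))) e
        simp only [ev_sum, ev_zero_left] at e'
        refine Eq.trans (Finset.sum_congr rfl fun i _ => ?_) e'
        rw [ap_θ]
        have e2 := ev_θsec G H (φ i) (h i) (𝟙 V₁) (rs v (P.e a))
        simp only [rs, op_id, res_id] at e2
        exact e2.symm
      refine (loc_vanish_multi hE Finset.univ (fun a i => ev (φ i) (rs v (P.e a))) h h0).mono ?_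
      rintro V₂ g₂ ⟨l, h', α, he, hα⟩
      rw [op_comp, ← res_comp, hz₁, res_sum]
      have hφ0 : ∀ j, ∑ i, α i j • rs g₂ (φ i) = 0 := fun j => by
        refine hom_ext_gen P (g₂ ≫ v) fun a => ?_
        rw [ev_sum, ev_zero_left]
        refine Eq.trans (Finset.sum_congr rfl fun i _ => ?_) (hα a (Finset.mem_univ a) j)
        rw [ev_smul, ← rs_rs]
        exact congrArg (α i j • ·) (res_ev g₂ (φ i) _).symm
      have e1 : ∀ i, res ((jP O).obj T) g₂.op (shT _ H (φ i) (h i)) =
          ∑ j, shT _ H (α i j • rs g₂ (φ i)) (h' j) := fun i => by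
        rw [res_shT, he i, shT_sum_right]
        refine Finset.sum_congr rfl fun j _ => ?_
        rw [shT_smul_right, shT_smul_left]
      rw [Finset.sum_congr rfl fun i _ => e1 i, Finset.sum_comm]
      refine Finset.sum_eq_zero fun j _ => ?_
      rw [← shT_sum_left, hφ0 j, shT_zero_left]
  have hsurj : ∀ (V : C) (χ : Sec ((ModSite.sheafHom F).obj (tens G H)) V),
      Loc J V fun V' g => ∃ p, ap (θ F G H) V' p = res _ g.op χ := by
    intro V χ
    refine Loc.bind (loc_finPres F V) ?_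
    rintro V₁ g₁ ⟨U, v, ⟨P⟩⟩
    refine Loc.bind (Loc.forall_finset (Finset.univ : Finset (Fin P.n)) fun a _ =>
      loc_tensor G H (ev (rs g₁ χ) (rs v (P.e a)))) ?_
    intro V₂ g₂ hx
    choose n x y hxy using fun a => hx a (Finset.mem_univ a)
    let e := (Fintype.equivFin (Σ a, Fin (n a))).symm
    let gg : Fin P.n → _ → Sec G V₂ := fun a k => if (e k).1 = a then x (e k).1 (e k).2 else 0
    let hh : _ → Sec H V₂ := fun k => y (e k).1 (e k).2
    have ht : ∀ a, ev (rs g₂ (rs g₁ χ)) (rs (g₂ ≫ v) (P.e a)) = ∑ k, shT G H (gg a k) (hh k) := fun a => by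
      have h1 : rs g₂ (ev (rs g₁ χ) (rs v (P.e a))) = _ := (res_ev g₂ _ _).symm.trans rfl |>.symm
      rw [← rs_rs]
      refine (res_ev g₂ (rs g₁ χ) (rs v (P.e a))).symm.trans ((hxy a).trans ?_)
      refine Eq.trans ?_ (e.sum_comp fun q : Σ a, Fin (n a) =>
        shT G H (if q.1 = a then x q.1 q.2 else 0) (y q.1 q.2)).symm
      rw [Fintype.sum_sigma, Finset.sum_eq_single a (fun b _ hb => Finset.sum_eq_zero fun q _ => by
        show shT G H (if b = a then x b q else 0) (y b q) = 0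
        rw [if_neg hb, shT_zero_left]) (fun h => absurd (Finset.mem_univ a) h)]
      exact Finset.sum_congr rfl fun q _ => by rw [if_pos rfl]
    have h0 : ∀ b ∈ (Finset.univ : Finset (Fin P.m)),
        ∑ k, shT G H (∑ a, rC (g₂ ≫ v) (P.c b a) • gg a k) (hh k) = 0 := fun b _ => by
      have e0 := congrArg (ev (rs g₂ (rs g₁ χ))) (congrArg (rs (g₂ ≫ v)) (P.rel b))
      rw [show rs (g₂ ≫ v) (∑ a, P.c b a • P.e a) = _ from res_sum ((jP O).obj F) (g₂ ≫ v).op _ _,
        ev_sum_right, show rs (g₂ ≫ v) (0 : Sec F U) = 0 from res_zero _ _] at e0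
      have e00 : ev (rs g₂ (rs g₁ χ)) (0 : Sec F V₂) = 0 := by
        rw [← Finset.sum_empty (f := fun q : Empty => (q.elim : Sec F V₂)), ev_sum_right, Finset.sum_empty]
      rw [e00] at e0
      refine Eq.trans ?_ e0
      simp only [shT_sum_left, shT_smul_left]
      rw [Finset.sum_comm]
      refine Finset.sum_congr rfl fun a _ => ?_
      rw [← Finset.smul_sum, ← ht a, res_smul, ev_smul_right]
    refine (loc_vanish_multi hE Finset.univ _ hh h0).mono ?_
    rintro V₃ g₃ ⟨l, h', α, he, hα⟩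
    have hrel : ∀ i b, ∑ a, rC (g₃ ≫ g₂ ≫ v) (P.c b a) • ∑ k, α k i • rs g₃ (gg a k) = 0 := fun i b => by
      refine Eq.trans ?_ (hα b (Finset.mem_univ b) i)
      simp only [Finset.smul_sum, res_sum]
      rw [Finset.sum_comm]
      refine Finset.sum_congr rfl fun k _ => Finset.sum_congr rfl fun a _ => ?_
      rw [res_smul, ← mul_smul, ← mul_smul, rC_comp, mul_comm]
    choose φ hφ using fun i => exists_of_tuple P (g₃ ≫ g₂ ≫ v) (fun a => ∑ k, α k i • rs g₃ (gg a k)) (hrel i)
    refine ⟨∑ i, shT _ H (φ i) (h' i), ?_⟩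
    rw [ap_sum]
    refine hom_ext_gen P (g₃ ≫ g₂ ≫ v) fun a => ?_
    rw [ev_sum]
    have hrhs : ev (res ((jP O).obj ((ModSite.sheafHom F).obj (tens G H))) (g₃ ≫ g₂ ≫ g₁).op χ)
        (rs (g₃ ≫ g₂ ≫ v) (P.e a)) = rs g₃ (∑ k, shT G H (gg a k) (hh k)) := by
      rw [← ht a]
      refine Eq.trans ?_ (res_ev g₃ _ _).symm
      show ev (rs (g₃ ≫ g₂ ≫ g₁) χ) _ = ev (rs g₃ (rs g₂ (rs g₁ χ))) (rs g₃ (rs (g₂ ≫ v) (P.e a)))
      simp only [rs_rs, Category.assoc]
    refine Eq.trans ?_ (Eq.trans hrhs.symm (by simp only [Category.assoc]))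
    rw [show rs g₃ (∑ k, shT G H (gg a k) (hh k)) = _ from res_sum ((jP O).obj (tens G H)) g₃.op _ _]
    have e1 : ∀ i, ev (ap (θ F G H) V₃ (shT _ H (φ i) (h' i))) (rs (g₃ ≫ g₂ ≫ v) (P.e a)) =
        ∑ k, shT G H (α k i • rs g₃ (gg a k)) (h' i) := fun i => by
      rw [ap_θ]
      have e2 := ev_θsec G H (φ i) (h' i) (𝟙 V₃) (rs (g₃ ≫ g₂ ≫ v) (P.e a))
      simp only [rs, op_id, res_id] at e2
      refine e2.trans ?_
      show shT G H (ev (φ i) (rs (g₃ ≫ g₂ ≫ v) (P.e a))) (h' i) = _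
      rw [hφ i a, shT_sum_left]
    rw [Finset.sum_congr rfl fun i _ => e1 i, Finset.sum_comm]
    refine Finset.sum_congr rfl fun k _ => ?_
    rw [res_shT, he k, shT_sum_right]
    refine Finset.sum_congr rfl fun i _ => ?_
    rw [shT_smul_right, shT_smul_left]
  haveI : Epi (θ F G H) := ⟨fun {Z} a b e => SheafOfModules.hom_ext (PresheafOfModules.hom_ext fun W =>
    ModuleCat.hom_ext (LinearMap.ext fun χ => by
      show ap a W.unop χ = ap b W.unop χ
      refine sub_eq_zero.1 (sec_eq_zero_of_loc Z _ ((hsurj W.unop χ).mono ?_))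
      rintro V' g ⟨p, hp⟩
      refine (map_sub (((jP O).obj Z).map g.op).hom _ _).trans (sub_eq_zero.2 ?_)
      refine (app_res ((jP O).map a) g.op χ).symm.trans (Eq.trans ?_ (app_res ((jP O).map b) g.op χ))
      show ap a V' (res _ g.op χ) = ap b V' (res _ g.op χ)
      rw [← hp]
      exact congr(((jP O).map $e).app (op V') p)))⟩
  exact isIso_of_mono_of_epi _

end Groth.Agent.HomTensLib
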